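import Cfsg.Agent.ThompsonRep.Table

/-!
Relators hold in the representation.
-/

set_option autoImplicit false
set_option maxRecDepth 100000

namespace CfsgLib.ThRep

/-- Relator words. -/
def batch0 : List (List ℕ) :=
  [[0, 0],
    [1, 1],
    [2, 2],
    [3, 3],
    [4, 4],
    [0, 1, 0, 1, 0, 1],
    [0, 4, 0, 4],
    [1, 2, 1, 2, 1, 2],
    [1, 3, 1, 3],
    [1, 4, 1, 4]]

theorem batch0_ok : checkBatch batch0 = true := by decide +kernel

end CfsgLib.ThRep
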