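import Cfsg.Agent.ThompsonRep.Table

/-!
Relators hold in the representation.
-/

set_option autoImplicit false
set_option maxRecDepth 100000

namespace CfsgLib.ThRep

/-- Relator words. -/
def batch1 : List (List ℕ) :=
  [[0, 3, 2, 3, 2, 3, 2, 3, 2],
    [2, 4, 2, 4],
    [3, 4, 3, 4, 3, 4]]

theorem batch1_ok : checkBatch batch1 = true := by decide +kernel

end CfsgLib.ThRep
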