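import Cfsg.Agent.ThompsonRep.Table

/-!
Relators hold in the representation.
-/

set_option autoImplicit false
set_option maxRecDepth 100000

namespace CfsgLib.ThRep

/-- Relator words. -/
def batch3 : List (List ℕ) :=
  [[6, 0, 5, 0],
    [6, 1, 5, 1],
    [6, 2, 5, 2],
    [5, 3, 5, 3],
    [4, 6, 4, 6, 6, 4, 5, 5, 5],
    [7, 7, 7],
    [8, 0, 7, 0],
    [8, 1, 7, 1],
    [8, 2, 7, 2]]

theorem batch3_ok : checkBatch batch3 = true := by decide +kernel

end CfsgLib.ThRep
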