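import Cfsg.Agent.ThompsonRep.Table

/-!
Relators hold in the representation.
-/

set_option autoImplicit false
set_option maxRecDepth 100000

namespace CfsgLib.ThRep

/-- Relator words. -/
def batch4 : List (List ℕ) :=
  [[8, 3, 7, 3],
    [8, 4, 7, 4],
    [8, 5, 7, 6, 6],
    [9, 9, 2, 0],
    [10, 0, 9, 0],
    [10, 2, 9, 2],
    [10, 4, 9, 4],
    [3, 4, 10, 3, 9, 3, 4, 10, 3, 9]]

theorem batch4_ok : checkBatch batch4 = true := by decide +kernel

end CfsgLib.ThRep
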