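import Cfsg.Agent.ThompsonRep.Table

/-!
Relators hold in the representation.
-/

set_option autoImplicit false
set_option maxRecDepth 100000

namespace CfsgLib.ThRep

/-- Relator words. -/
def batch5 : List (List ℕ) :=
  [[10, 1, 2, 0, 1, 9, 1, 0, 2, 1, 4],
    [3, 10, 3, 1, 2, 0, 1, 3, 9, 3, 1, 0, 2, 1, 2, 4, 3, 10, 3, 1, 2, 0, 1, 4, 10],
    [10, 7, 9, 7]]

theorem batch5_ok : checkBatch batch5 = true := by decide +kernel

end CfsgLib.ThRep
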