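import Cfsg.Agent.ThompsonRep.Table

/-!
Relators hold in the representation.
-/

set_option autoImplicit false
set_option maxRecDepth 100000

namespace CfsgLib.ThRep

/-- Relator words. -/
def batch7 : List (List ℕ) :=
  [[3, 6, 6, 9, 5, 5, 3, 6, 6, 9, 5, 5, 3, 6, 6, 9, 5, 5, 3, 6, 6, 9, 4, 3, 2, 3, 4, 5, 5, 5, 4, 3, 2, 3, 4, 6, 3, 2, 3, 2, 0]]

theorem batch7_ok : checkBatch batch7 = true := by decide +kernel

end CfsgLib.ThRep
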