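import Cfsg.Agent.ThompsonRep.CheckInv
import Cfsg.Agent.ThompsonRep.Check0
import Cfsg.Agent.ThompsonRep.Check1
import Cfsg.Agent.ThompsonRep.Check2
import Cfsg.Agent.ThompsonRep.Check3
import Cfsg.Agent.ThompsonRep.Check4
import Cfsg.Agent.ThompsonRep.Check5
import Cfsg.Agent.ThompsonRep.Check6
import Cfsg.Agent.ThompsonRep.Check7
import Cfsg.Prelude.Def_Spor_Th
import Mathlib.GroupTheory.FreeGroup.Reduce

/-!
The representation of degree 248 over the field with three elements of the presented Thompson group.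
-/

set_option autoImplicit false
set_option maxRecDepth 100000

namespace CfsgLib.ThRep

open Matrix Cfsg.Spor CfsgLib.LyG2

/-- The matrix of a letter. -/
def mat (x : ℕ) : Matrix (Fin 248) (Fin 248) (ZMod 3) := toT 248 (tab x)

/-- The letter of a generator or of its inverse. -/
def code : Th.Gen × Bool → ℕ
  | (.a, _) => 0
  | (.b, _) => 1
  | (.c, _) => 2
  | (.d, _) => 3
  | (.e, _) => 4
  | (.s, true) => 5
  | (.s, false) => 6
  | (.t, true) => 7
  | (.t, false) => 8
  | (.u, true) => 9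
  | (.u, false) => 10

theorem code_lt : ∀ x, code x < 11 := by
  rintro ⟨g, b⟩; cases g <;> cases b <;> decide

theorem oneOk_ok : oneOk 248 = true := (good_of_check good_ok).1

theorem goodX_tab (x : ℕ) (hx : x < 11) : goodX 248 (tab x) = true := (good_of_check good_ok).2 x hx

theorem mat_pair {i j : ℕ} (hi : i < 11) (hj : j < 11) (h : [i, j] ∈ batchInv) : mat i * mat j = 1 := by
  have := chk3_word (N := 248) (by norm_num) tab oneOk_ok (w := [i, j])
    (fun x hx => by
      rcases List.mem_cons.1 hx with rfl | hx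
      · exact goodX_tab _ hi
      · rw [List.mem_singleton.1 hx]; exact goodX_tab _ hj)
    (chk_of_batch batchInv_ok) h
  simpa [mat] using this

theorem mat_eq (x : ℕ) : mat x = toT 248 (tab x) := by rw [mat]

attribute [local irreducible] mat

theorem inv_mem : ∀ g : Th.Gen, [code (g, true), code (g, false)] ∈ batchInv ∧
    [code (g, false), code (g, true)] ∈ batchInv := by
  intro g; cases g <;> decide

/-- The values of the generators. -/
def genGL (g : Th.Gen) : GL (Fin 248) (ZMod 3) :=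
  ⟨mat (code (g, true)), mat (code (g, false)),
    mat_pair (code_lt _) (code_lt _) (inv_mem g).1, mat_pair (code_lt _) (code_lt _) (inv_mem g).2⟩

theorem val_lift_mk_of {α R : Type*} [Monoid R] (f : α → Rˣ) (v : α × Bool → R)
    (hp : ∀ g, (f g).val = v (g, true)) (hn : ∀ g, (f g)⁻¹.val = v (g, false)) :
    ∀ w : List (α × Bool), (FreeGroup.lift f (FreeGroup.mk w)).val = (w.map v).prod
  | [] => by rw [← FreeGroup.one_eq_mk, map_one]; rfl
  | (g, b) :: w => by
    have h : FreeGroup.mk ((g, b) :: w) = FreeGroup.mk [(g, b)] * FreeGroup.mk w := by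
      rw [FreeGroup.mul_mk]; rfl
    rw [h, map_mul, Units.val_mul, val_lift_mk_of f v hp hn w, List.map_cons, List.prod_cons]
    cases b <;> simp [FreeGroup.lift_mk, hp, hn]

theorem genGL_val (g : Th.Gen) : (genGL g).val = mat (code (g, true)) := by rw [genGL]

theorem genGL_inv_val (g : Th.Gen) : (genGL g)⁻¹.val = mat (code (g, false)) := by
  rw [genGL, Units.inv_mk]

theorem val_lift_mk (w : List (Th.Gen × Bool)) :
    (FreeGroup.lift genGL (FreeGroup.mk w)).val = (w.map fun x => mat (code x)).prod :=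
  val_lift_mk_of genGL (fun x => mat (code x)) genGL_val genGL_inv_val w

/-- The reduced words of the relators. -/
def relWords : List (List (Th.Gen × Bool)) :=
  [[(Th.Gen.a, true), (Th.Gen.a, true)],
    [(Th.Gen.b, true), (Th.Gen.b, true)],
    [(Th.Gen.c, true), (Th.Gen.c, true)],
    [(Th.Gen.d, true), (Th.Gen.d, true)],
    [(Th.Gen.e, true), (Th.Gen.e, true)],
    [(Th.Gen.a, true), (Th.Gen.b, true), (Th.Gen.a, true), (Th.Gen.b, true), (Th.Gen.a, true), (Th.Gen.b, true)],
    [(Th.Gen.a, true), (Th.Gen.e, true), (Th.Gen.a, true), (Th.Gen.e, true)],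
    [(Th.Gen.b, true), (Th.Gen.c, true), (Th.Gen.b, true), (Th.Gen.c, true), (Th.Gen.b, true), (Th.Gen.c, true)],
    [(Th.Gen.b, true), (Th.Gen.d, true), (Th.Gen.b, true), (Th.Gen.d, true)],
    [(Th.Gen.b, true), (Th.Gen.e, true), (Th.Gen.b, true), (Th.Gen.e, true)],
    [(Th.Gen.a, true), (Th.Gen.d, false), (Th.Gen.c, false), (Th.Gen.d, false), (Th.Gen.c, false), (Th.Gen.d, false), (Th.Gen.c, false), (Th.Gen.d, false), (Th.Gen.c, false)],
    [(Th.Gen.c, true), (Th.Gen.e, true), (Th.Gen.c, true), (Th.Gen.e, true)],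
    [(Th.Gen.d, true), (Th.Gen.e, true), (Th.Gen.d, true), (Th.Gen.e, true), (Th.Gen.d, true), (Th.Gen.e, true)],
    [(Th.Gen.b, true), (Th.Gen.c, true), (Th.Gen.d, true), (Th.Gen.e, true), (Th.Gen.b, true), (Th.Gen.c, true), (Th.Gen.d, true), (Th.Gen.e, true), (Th.Gen.b, true), (Th.Gen.c, true), (Th.Gen.d, true), (Th.Gen.e, true), (Th.Gen.b, true), (Th.Gen.c, true), (Th.Gen.d, true), (Th.Gen.e, true), (Th.Gen.b, true), (Th.Gen.c, true), (Th.Gen.d, true), (Th.Gen.e, true), (Th.Gen.b, true), (Th.Gen.c, true), (Th.Gen.d, true), (Th.Gen.e, true), (Th.Gen.b, true), (Th.Gen.c, true), (Th.Gen.d, true), (Th.Gen.e, true), (Th.Gen.b, true), (Th.Gen.c, true), (Th.Gen.d, true), (Th.Gen.e, true)],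
    [(Th.Gen.s, true), (Th.Gen.s, true), (Th.Gen.s, true), (Th.Gen.s, true), (Th.Gen.s, true), (Th.Gen.s, true), (Th.Gen.s, true)],
    [(Th.Gen.s, false), (Th.Gen.a, false), (Th.Gen.s, true), (Th.Gen.a, true)],
    [(Th.Gen.s, false), (Th.Gen.b, false), (Th.Gen.s, true), (Th.Gen.b, true)],
    [(Th.Gen.s, false), (Th.Gen.c, false), (Th.Gen.s, true), (Th.Gen.c, true)],
    [(Th.Gen.s, true), (Th.Gen.d, true), (Th.Gen.s, true), (Th.Gen.d, true)],
    [(Th.Gen.e, false), (Th.Gen.s, false), (Th.Gen.e, true), (Th.Gen.s, false), (Th.Gen.s, false), (Th.Gen.e, false), (Th.Gen.s, true), (Th.Gen.s, true), (Th.Gen.s, true)],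
    [(Th.Gen.t, true), (Th.Gen.t, true), (Th.Gen.t, true)],
    [(Th.Gen.t, false), (Th.Gen.a, false), (Th.Gen.t, true), (Th.Gen.a, true)],
    [(Th.Gen.t, false), (Th.Gen.b, false), (Th.Gen.t, true), (Th.Gen.b, true)],
    [(Th.Gen.t, false), (Th.Gen.c, false), (Th.Gen.t, true), (Th.Gen.c, true)],
    [(Th.Gen.t, false), (Th.Gen.d, false), (Th.Gen.t, true), (Th.Gen.d, true)],
    [(Th.Gen.t, false), (Th.Gen.e, false), (Th.Gen.t, true), (Th.Gen.e, true)],
    [(Th.Gen.t, false), (Th.Gen.s, true), (Th.Gen.t, true), (Th.Gen.s, false), (Th.Gen.s, false)],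
    [(Th.Gen.u, true), (Th.Gen.u, true), (Th.Gen.c, false), (Th.Gen.a, false)],
    [(Th.Gen.u, false), (Th.Gen.a, false), (Th.Gen.u, true), (Th.Gen.a, true)],
    [(Th.Gen.u, false), (Th.Gen.c, false), (Th.Gen.u, true), (Th.Gen.c, true)],
    [(Th.Gen.u, false), (Th.Gen.e, false), (Th.Gen.u, true), (Th.Gen.e, true)],
    [(Th.Gen.d, true), (Th.Gen.e, true), (Th.Gen.u, false), (Th.Gen.d, true), (Th.Gen.u, true), (Th.Gen.d, true), (Th.Gen.e, true), (Th.Gen.u, false), (Th.Gen.d, true), (Th.Gen.u, true)],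
    [(Th.Gen.u, false), (Th.Gen.b, false), (Th.Gen.c, false), (Th.Gen.a, false), (Th.Gen.b, true), (Th.Gen.u, true), (Th.Gen.b, false), (Th.Gen.a, true), (Th.Gen.c, true), (Th.Gen.b, true), (Th.Gen.e, false)],
    [(Th.Gen.d, false), (Th.Gen.u, false), (Th.Gen.d, true), (Th.Gen.b, false), (Th.Gen.c, false), (Th.Gen.a, false), (Th.Gen.b, true), (Th.Gen.d, false), (Th.Gen.u, true), (Th.Gen.d, true), (Th.Gen.b, false), (Th.Gen.a, true), (Th.Gen.c, true), (Th.Gen.b, true), (Th.Gen.c, false), (Th.Gen.e, false), (Th.Gen.d, false), (Th.Gen.u, false), (Th.Gen.d, true), (Th.Gen.b, false), (Th.Gen.c, false), (Th.Gen.a, false), (Th.Gen.b, true), (Th.Gen.e, false), (Th.Gen.u, false)],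
    [(Th.Gen.u, false), (Th.Gen.t, true), (Th.Gen.u, true), (Th.Gen.t, true)],
    [(Th.Gen.e, false), (Th.Gen.s, false), (Th.Gen.s, false), (Th.Gen.u, false), (Th.Gen.s, true), (Th.Gen.s, true), (Th.Gen.e, true), (Th.Gen.s, false), (Th.Gen.s, false), (Th.Gen.u, true), (Th.Gen.s, true), (Th.Gen.s, true)],
    [(Th.Gen.a, true), (Th.Gen.c, true), (Th.Gen.s, false), (Th.Gen.u, false), (Th.Gen.s, false), (Th.Gen.u, false), (Th.Gen.s, false), (Th.Gen.u, false)],
    [(Th.Gen.a, true), (Th.Gen.c, true), (Th.Gen.s, false), (Th.Gen.u, false), (Th.Gen.s, true), (Th.Gen.u, true), (Th.Gen.s, false), (Th.Gen.u, false), (Th.Gen.s, true), (Th.Gen.u, true), (Th.Gen.s, false), (Th.Gen.u, false), (Th.Gen.s, true), (Th.Gen.u, true), (Th.Gen.s, false), (Th.Gen.u, false), (Th.Gen.s, true), (Th.Gen.u, true)],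
    [(Th.Gen.d, true), (Th.Gen.s, false), (Th.Gen.s, false), (Th.Gen.u, true), (Th.Gen.s, true), (Th.Gen.s, true), (Th.Gen.d, true), (Th.Gen.s, false), (Th.Gen.s, false), (Th.Gen.u, true), (Th.Gen.s, true), (Th.Gen.s, true), (Th.Gen.d, true), (Th.Gen.s, false), (Th.Gen.s, false), (Th.Gen.u, true), (Th.Gen.s, true), (Th.Gen.s, true), (Th.Gen.d, true), (Th.Gen.s, false), (Th.Gen.s, false), (Th.Gen.u, true), (Th.Gen.e, false), (Th.Gen.d, false), (Th.Gen.c, false), (Th.Gen.d, true), (Th.Gen.e, true), (Th.Gen.s, true), (Th.Gen.s, true), (Th.Gen.s, true), (Th.Gen.e, false), (Th.Gen.d, false), (Th.Gen.c, false), (Th.Gen.d, true), (Th.Gen.e, true), (Th.Gen.s, false), (Th.Gen.d, false), (Th.Gen.c, false), (Th.Gen.d, true), (Th.Gen.c, false), (Th.Gen.a, false)]]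

theorem extra_words : Th.extra.map FreeGroup.toWord = relWords := by decide +kernel

theorem relWords_mem : ∀ w ∈ relWords, w.map code ∈ batch0 ++ batch1 ++ batch2 ++ batch3 ++ batch4 ++ batch5 ++ batch6 ++ batch7 := by decide +kernel

theorem lift_extra (r : FreeGroup Th.Gen) (hr : r ∈ Th.extra) : FreeGroup.lift genGL r = 1 := by
  have h := relWords_mem r.toWord (extra_words ▸ List.mem_map_of_mem hr)
  have hg : ∀ x ∈ r.toWord.map code, goodX 248 (tab x) = true := fun x hx => by
    obtain ⟨y, -, rfl⟩ := List.mem_map.1 hx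
    exact goodX_tab _ (code_lt y)
  have hone := oneOk_ok
  refine Units.ext ?_
  rw [← FreeGroup.mk_toWord (x := r), val_lift_mk, Units.val_one,
    show (r.toWord.map fun x => mat (code x)) = (r.toWord.map code).map (fun x => toT 248 (tab x)) by
      rw [List.map_map]; simp only [Function.comp_def, mat_eq]]
  simp only [List.mem_append] at h
  rcases h with ((((((h | h) | h) | h) | h) | h) | h) | h
  · exact chk3_word (by norm_num) tab hone hg (chk_of_batch batch0_ok) h
  · exact chk3_word (by norm_num) tab hone hg (chk_of_batch batch1_ok) h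
  · exact chk3_word (by norm_num) tab hone hg (chk_of_batch batch2_ok) h
  · exact chk3_word (by norm_num) tab hone hg (chk_of_batch batch3_ok) h
  · exact chk3_word (by norm_num) tab hone hg (chk_of_batch batch4_ok) h
  · exact chk3_word (by norm_num) tab hone hg (chk_of_batch batch5_ok) h
  · exact chk3_word (by norm_num) tab hone hg (chk_of_batch batch6_ok) h
  · exact chk3_word (by norm_num) tab hone hg (chk_of_batch batch7_ok) h

/-- The representation. -/
noncomputable def rep : Th →* GL (Fin 248) (ZMod 3) :=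
  PresentedGroup.toGroup (f := genGL) (by
    intro r hr
    rcases hr with hr | hr
    · obtain ⟨e, hx, -⟩ := hr
      simp [coxNodes, Th.edges] at hx
    · exact lift_extra r hr)

/-- The values on the generators. -/
theorem rep_of (g : Th.Gen) : rep (PresentedGroup.of g) = genGL g := PresentedGroup.toGroup.of _

end CfsgLib.ThRep
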