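import Cfsg.Agent.ThompsonRep.LowerBase
import Cfsg.Agent.ThompsonRep.LowerFiveData

/-!
The witnesses `16` and `17` have orders 19 and 31.
-/

set_option autoImplicit false
set_option Elab.async false
set_option maxRecDepth 100000

namespace CfsgLib.ThRep

theorem fivePow19_ok : checkExt fiveRows [List.replicate 19 16] = true := by decide +kernel

theorem fivePow31_ok : checkExt fiveRows [List.replicate 31 17] = true := by decide +kernel

end CfsgLib.ThRep
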