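import Cfsg.Agent.ThompsonRep.LowerBase
import Cfsg.Agent.ThompsonRep.LowerFiveData

/-!
Relations between the elements of order 5 made of the witnesses `11` to `15` (`14`, `15` invert
`12`, `13`).
-/

set_option autoImplicit false
set_option Elab.async false
set_option maxRecDepth 100000

namespace CfsgLib.ThRep

/-- The word of the second generator. -/
def fiveY : List ℕ := [0, 15, 14, 0, 12, 13]

/-- The word of the third generator. -/
def fiveX : List ℕ := [0, 12, 13, 0, 15, 14]

/-- The inverse of the second generator. -/
def fiveYi : List ℕ := [15, 14, 0, 12, 13, 0]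

/-- The inverse of the third generator. -/
def fiveXi : List ℕ := [12, 13, 0, 15, 14, 0]

/-- The fifth power of the first generator. -/
def fiveRelZ : List ℕ := List.replicate 5 11

/-- The fifth power of the second generator. -/
def fiveRelY : List ℕ := fiveY ++ fiveY ++ fiveY ++ fiveY ++ fiveY

/-- The fifth power of the third generator. -/
def fiveRelX : List ℕ := fiveX ++ fiveX ++ fiveX ++ fiveX ++ fiveX

/-- The first generator is central for the second. -/
def fiveRelYZ : List ℕ := fiveY ++ [11] ++ fiveYi ++ List.replicate 4 11

/-- The first generator is central for the third. -/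
def fiveRelXZ : List ℕ := fiveX ++ [11] ++ fiveXi ++ List.replicate 4 11

/-- The commutator of the last two generators. -/
def fiveRelXY : List ℕ := fiveX ++ fiveY ++ fiveXi ++ fiveYi ++ [11]

/-- The inverse pairs. -/
def fiveRelInv : List ℕ := [12, 14]

/-- The inverse pairs. -/
def fiveRelInv' : List ℕ := [13, 15]

theorem fiveRelZ_ok : checkExt fiveRows [fiveRelZ] = true := by decide +kernel

theorem fiveRelY_ok : checkExt fiveRows [fiveRelY] = true := by decide +kernel

theorem fiveRelX_ok : checkExt fiveRows [fiveRelX] = true := by decide +kernel

theorem fiveRelYZ_ok : checkExt fiveRows [fiveRelYZ] = true := by decide +kernel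

theorem fiveRelXZ_ok : checkExt fiveRows [fiveRelXZ] = true := by decide +kernel

theorem fiveRelXY_ok : checkExt fiveRows [fiveRelXY] = true := by decide +kernel

theorem fiveRelInv_ok : checkExt fiveRows [fiveRelInv] = true := by decide +kernel

theorem fiveRelInv'_ok : checkExt fiveRows [fiveRelInv'] = true := by decide +kernel

end CfsgLib.ThRep
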