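import Cfsg.Agent.ThompsonRep.LowerFiveDefs
import Cfsg.Agent.ThompsonRep.LowerFivePow
import Cfsg.Agent.ThompsonRep.LowerFiveRel

/-!
The image of the presented Thompson group in degree 248 has order divisible by `5 ^ 3`, 19 and 31.
-/

set_option autoImplicit false
set_option Elab.async false
set_option maxRecDepth 100000

namespace CfsgLib.ThRep

open CfsgLib.LyG2

attribute [local irreducible] mat genGL rep tab extTab
attribute [local irreducible] elGL letGL

theorem five_len : fiveDefs.length = fiveRows.length := by decide +kernel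

theorem five_good : goodExt fiveRows = true := by decide +kernel

theorem five_defs_lt : fiveDefs.all (fun d => d.all fun x => Nat.blt x 11) = true := by
  decide +kernel

/-- The witnesses. -/
def fiveW : Witnesses where
  rows := fiveRows
  defs := fiveDefs
  len := five_len
  good := five_good
  defs_lt := fun d hd x hx =>
    Nat.le_of_ble_eq_true (List.all_eq_true.mp (List.all_eq_true.mp five_defs_lt d hd) x hx)
  defs_ok := fiveDefs_ok

/-- A witness as an element of the image. -/
noncomputable def fiveEl (x : ℕ) : rep.range := ⟨extGL fiveW.defs x, extGL_mem _ x⟩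

theorem fiveEl_word {w : List ℕ} (hc : checkExt fiveRows [w] = true)
    (hw : w.all (fun x => Nat.blt x 18) = true) : (w.map fiveEl).prod = 1 := by
  have hl : fiveRows.length = 7 := by decide +kernel
  have h := fiveW.eq_one hc (fun x hx => by
    show x < 11 + fiveRows.length
    rw [hl]
    exact Nat.le_of_ble_eq_true (List.all_eq_true.mp hw x hx)) List.mem_cons_self
  refine Subtype.ext ?_
  rw [SubmonoidClass.coe_list_prod, List.map_map, OneMemClass.coe_one]
  exact h

attribute [local irreducible] fiveEl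

theorem five_diag : [(11, 0), (16, 0), (17, 0)].all (fun e =>
    Bool.not (Nat.beq (dig (((allRows ++ fiveRows).map (expand 248)).getD e.1 0)
      (e.2 * 248 + e.2)) 1) && Nat.blt (dig (((allRows ++ fiveRows).map (expand 248)).getD e.1 0)
      (e.2 * 248 + e.2)) 3) = true := by decide +kernel

theorem fiveEl_coe (x : ℕ) : (fiveEl x : GL (Fin 248) (ZMod 3)) = extGL fiveW.defs x := by
  unfold fiveEl; rfl

theorem fiveEl_ne {x i : ℕ} (h : (x, i) ∈ [(11, 0), (16, 0), (17, 0)]) :
    fiveEl x ≠ 1 := by
  intro e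
  have hd := List.all_eq_true.mp five_diag _ h
  simp only [Bool.and_eq_true, Bool.not_eq_true', Nat.blt_eq] at hd
  have hi : i < 248 ∧ x < 11 + fiveRows.length := by
    have hl : fiveRows.length = 7 := by decide +kernel
    simp only [List.mem_cons, Prod.mk.injEq, List.not_mem_nil, or_false] at h
    omega
  have e2 : toT 248 (extTab fiveW.rows x) = 1 := by
    rw [← fiveW.val hi.2, show extGL fiveW.defs x = 1 by rw [← fiveEl_coe, e, OneMemClass.coe_one], Units.val_one]
  have e3 := congrFun (congrFun e2 ⟨i, hi.1⟩) ⟨i, hi.1⟩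
  rw [toT, Matrix.of_apply, Matrix.one_apply_eq, extTab] at e3
  have e4 := congrArg ZMod.val e3
  rw [ZMod.val_natCast, ZMod.val_one] at e4
  have e5 : dig (((allRows ++ fiveRows).map (expand 248)).getD x 0) (i * 248 + i) = 1 := by
    rw [← e4]
    exact (Nat.mod_eq_of_lt hd.2).symm
  rw [e5] at hd
  exact Bool.noConfusion hd.1

theorem finite_range : Finite rep.range := inferInstance

/-- The value of a word in the letters and witnesses. -/
noncomputable def fiveVal (w : List ℕ) : rep.range := (w.map fiveEl).prod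

theorem fiveVal_append (u v : List ℕ) : fiveVal (u ++ v) = fiveVal u * fiveVal v := by
  rw [fiveVal, fiveVal, fiveVal, List.map_append, List.prod_append]

theorem letter_inv : fiveEl 14 = (fiveEl 12)⁻¹ ∧ fiveEl 15 = (fiveEl 13)⁻¹ ∧
    fiveEl 0 = (fiveEl 0)⁻¹ := by
  have h1 := fiveEl_word fiveRelInv_ok (by decide)
  have h2 := fiveEl_word fiveRelInv'_ok (by decide)
  simp only [fiveRelInv, fiveRelInv', List.map_cons, List.map_nil, List.prod_cons,
    List.prod_nil, mul_one] at h1 h2
  refine ⟨eq_inv_of_mul_eq_one_right h1, eq_inv_of_mul_eq_one_right h2, Subtype.ext ?_⟩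
  rw [Subgroup.coe_inv, fiveEl_coe, extGL, if_pos (by norm_num)]
  exact (Witnesses.invLet_lt (x := 0) (by norm_num)).2

theorem fiveYi_eq : fiveVal fiveYi = (fiveVal fiveY)⁻¹ := by
  obtain ⟨h1, h2, h3⟩ := letter_inv
  simp only [fiveVal, fiveY, fiveYi, List.map_cons, List.map_nil, List.prod_cons, List.prod_nil,
    mul_one, h1, h2, mul_inv_rev, inv_inv, mul_assoc, ← h3]

theorem fiveXi_eq : fiveVal fiveXi = (fiveVal fiveX)⁻¹ := by
  obtain ⟨h1, h2, h3⟩ := letter_inv
  simp only [fiveVal, fiveX, fiveXi, List.map_cons, List.map_nil, List.prod_cons, List.prod_nil,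
    mul_one, h1, h2, mul_inv_rev, inv_inv, mul_assoc, ← h3]

/-- An extraspecial chain of length three gives divisibility by 125. -/
theorem dvd_125 {G : Type*} [Group G] [Finite G] (z y x : G) (p0 : z ^ 5 = 1) (p1 : y ^ 5 = 1)
    (p2 : x ^ 5 = 1) (c1 : y * z * y⁻¹ = z) (c2 : x * z * x⁻¹ = z)
    (c3 : x * y * x⁻¹ = z⁻¹ * y) (hz : z ≠ 1) : 5 ^ 3 ∣ Nat.card G := by
  have := Fact.mk (show Nat.Prime 5 by norm_num)
  let q : ℕ → G := fun i => [z, y, x].getD i 1
  have hq : ∀ {i j : ℕ}, j < i → q j ∈ prefixSub q i := fun {i j} hj =>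
    Subgroup.subset_closure ⟨j, hj, rfl⟩
  have hpow : ∀ i < 3, q i ^ 5 ∈ prefixSub q i := by
    intro i hi
    have : q i ^ 5 = 1 := by interval_cases i <;> assumption
    rw [this]
    exact Subgroup.one_mem _
  have hconj : ∀ i < 3, ∀ j < i, q i * q j * (q i)⁻¹ ∈ prefixSub q i := by
    intro i hi j hj
    interval_cases i <;> interval_cases j
    · rw [show q 1 * q 0 * (q 1)⁻¹ = q 0 from c1]; exact hq (by norm_num)
    · rw [show q 2 * q 0 * (q 2)⁻¹ = q 0 from c2]; exact hq (by norm_num)
    · rw [show q 2 * q 1 * (q 2)⁻¹ = (q 0)⁻¹ * q 1 from c3]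
      exact Subgroup.mul_mem _ (Subgroup.inv_mem _ (hq (by norm_num))) (hq (by norm_num))
  have hbig : 5 ^ 2 < Nat.card (prefixSub q 3) := by
    by_contra hle
    obtain ⟨k, hk⟩ := IsPGroup.iff_card.1 (isPGroup_prefix q 3 hpow hconj 3 le_rfl)
    have hk2 : k ≤ 2 := by
      by_contra hlt
      have : 5 ^ 3 ≤ 5 ^ k := Nat.pow_le_pow_right (by norm_num) (by omega)
      omega
    let a : prefixSub q 3 := ⟨q 1, hq (by norm_num)⟩
    let b : prefixSub q 3 := ⟨q 2, hq (by norm_num)⟩
    have hcomm : b * a = a * b := by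
      rcases Nat.lt_or_ge k 2 with h | h
      · have hcyc : IsCyclic (prefixSub q 3) := by
          rcases Nat.eq_zero_or_pos k with rfl | h0
          · have := (Nat.card_eq_one_iff_unique.mp (show Nat.card (prefixSub q 3) = 1 by rw [hk, pow_zero])).1
            infer_instance
          · exact isCyclic_of_prime_card (p := 5) (by
              rw [hk, show k = 1 by omega, pow_one])
        let _ := hcyc.commGroup
        exact mul_comm b a
      · exact (IsPGroup.isMulCommutative_of_card_eq_prime_sq
          (show Nat.card (prefixSub q 3) = 5 ^ 2 by rw [hk, show k = 2 by omega])).1.1 b a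
    have hc : x * y = y * x := congrArg Subtype.val hcomm
    rw [hc, mul_inv_cancel_right, eq_comm, mul_eq_right, inv_eq_one] at c3
    exact hz c3
  exact dvd_of_chain q 3 2 hpow hconj hbig

theorem dvd_five : 5 ^ 3 * 19 * 31 ∣ Nat.card rep.range := by
  have := Fact.mk (show Nat.Prime 5 by norm_num)
  have := Fact.mk (show Nat.Prime 19 by norm_num)
  have := Fact.mk (show Nat.Prime 31 by norm_num)
  set z := fiveEl 11 with hzdef
  set y := fiveVal fiveY with hydef
  set x := fiveVal fiveX with hxdef
  have p0 : z ^ 5 = 1 := by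
    have h := fiveEl_word fiveRelZ_ok (by decide)
    rwa [fiveRelZ, List.map_replicate, List.prod_replicate] at h
  have p1 : y ^ 5 = 1 := by
    have h : fiveVal fiveRelY = 1 := fiveEl_word fiveRelY_ok (by decide)
    simpa [fiveRelY, fiveVal_append, pow_succ, mul_assoc] using h
  have p2 : x ^ 5 = 1 := by
    have h : fiveVal fiveRelX = 1 := fiveEl_word fiveRelX_ok (by decide)
    simpa [fiveRelX, fiveVal_append, pow_succ, mul_assoc] using h
  have hz4 : fiveVal (List.replicate 4 11) = z⁻¹ := by
    rw [fiveVal, List.map_replicate, List.prod_replicate]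
    exact eq_inv_of_mul_eq_one_left (by rw [← pow_succ, p0])
  have h11 : fiveVal [11] = z := by simp [fiveVal, hzdef]
  have c1 : y * z * y⁻¹ = z := by
    have h : fiveVal fiveRelYZ = 1 := fiveEl_word fiveRelYZ_ok (by decide)
    rw [fiveRelYZ, fiveVal_append, fiveVal_append, fiveVal_append, hz4, h11, fiveYi_eq,
      mul_inv_eq_one] at h
    exact h
  have c2 : x * z * x⁻¹ = z := by
    have h : fiveVal fiveRelXZ = 1 := fiveEl_word fiveRelXZ_ok (by decide)
    rw [fiveRelXZ, fiveVal_append, fiveVal_append, fiveVal_append, hz4, h11, fiveXi_eq,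
      mul_inv_eq_one] at h
    exact h
  have c3 : x * y * x⁻¹ = z⁻¹ * y := by
    have h : fiveVal fiveRelXY = 1 := fiveEl_word fiveRelXY_ok (by decide)
    rw [fiveRelXY, fiveVal_append, fiveVal_append, fiveVal_append, fiveVal_append, h11, fiveXi_eq,
      fiveYi_eq, mul_assoc _ y⁻¹ z] at h
    rw [eq_inv_of_mul_eq_one_left h, mul_inv_rev, inv_inv]
  have hz : z ≠ 1 := fiveEl_ne (i := 0) (by decide)
  have h5 : 5 ^ 3 ∣ Nat.card rep.range := dvd_125 z y x p0 p1 p2 c1 c2 c3 hz
  have h19 : 19 ∣ Nat.card rep.range := by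
    have h := fiveEl_word fivePow19_ok (by decide)
    rw [List.map_replicate, List.prod_replicate] at h
    exact orderOf_eq_prime h (fiveEl_ne (i := 0) (by decide)) ▸ orderOf_dvd_natCard _
  have h31 : 31 ∣ Nat.card rep.range := by
    have h := fiveEl_word fivePow31_ok (by decide)
    rw [List.map_replicate, List.prod_replicate] at h
    exact orderOf_eq_prime h (fiveEl_ne (i := 0) (by decide)) ▸ orderOf_dvd_natCard _
  exact Nat.Coprime.mul_dvd_of_dvd_of_dvd (by norm_num)
    (Nat.Coprime.mul_dvd_of_dvd_of_dvd (by norm_num) h5 h19) h31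

end CfsgLib.ThRep
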