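import Cfsg.Agent.ThMult.Inj
import Cfsg.Agent.ThCert.Sep

/-!
The order of the representation of degree 248 is divisible by the order of the presented group
without the letter `u`, in particular by 49 and by 13.
-/

set_option autoImplicit false
set_option maxRecDepth 100000

namespace CfsgLib.ThRep

open Cfsg.Spor CfsgLib.ThCert

/-- The composite with the map of the subgroup is injective. -/
theorem rep_emb_inj : Function.Injective (rep.comp emb) := by
  rw [← MonoidHom.ker_eq_bot_iff]
  by_contra h
  have e : pg 0 ∈ (rep.comp emb).ker := gens_mem_of_normal P_bound _ h 0 (by norm_num)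
  rw [MonoidHom.mem_ker, MonoidHom.comp_apply, emb_pg (by norm_num),
    show rep (ThCert.g 0) = genGL Th.Gen.a from rep_of _] at e
  have e' := congrArg (fun x => x.val (120 : Fin 248) (120 : Fin 248)) e
  simp only [Units.val_one, Matrix.one_apply_eq] at e'
  rw [genGL_val, mat_eq, toT, Matrix.of_apply] at e'
  have e2 : ((CfsgLib.LyG2.dig (tab 0) (120 * 248 + 120) : ℕ) : ZMod 3) = 1 := e'
  rw [CfsgLib.ThMult.dig_a] at e2
  exact absurd e2 (by decide)

/-- The order of the subgroup divides the order of the image. -/
theorem card_P_dvd : 634023936 ∣ Nat.card rep.range := by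
  have h : (rep.comp emb).range ≤ rep.range := by
    rintro _ ⟨x, rfl⟩
    exact ⟨emb x, rfl⟩
  have hc : Nat.card (rep.comp emb).range = 634023936 :=
    (Nat.card_congr (MonoidHom.ofInjective rep_emb_inj).toEquiv).symm.trans (card_P_of P_bound)
  exact hc ▸ Subgroup.card_dvd_of_le h

/-- The primes 7 and 13. -/
theorem dvd_seven : 7 ^ 2 * 13 ∣ Nat.card rep.range :=
  (by norm_num : 7 ^ 2 * 13 ∣ 634023936).trans card_P_dvd

end CfsgLib.ThRep
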