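import Cfsg.Agent.ThompsonRep.LowerTwo
import Cfsg.Agent.ThompsonRep.Flag.Main
import Cfsg.Agent.ThompsonRep.LowerFive
import Cfsg.Agent.ThompsonRep.LowerSeven
import Cfsg.Agent.ThCert.Final

/-!
The order of the Thompson group divides the order of its image in degree 248, so the presented group
has at least that order.
-/

set_option autoImplicit false

namespace CfsgLib.ThRep

/-- The order of the Thompson group divides the order of the image. -/
theorem dvd_card_range : 90745943887872000 ∣ Nat.card rep.range := by
  have h := Nat.lcm_dvd (Nat.lcm_dvd LowerTwo.dvd_two dvd_three) (Nat.lcm_dvd dvd_five dvd_seven)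
  exact (by decide : Nat.lcm (Nat.lcm (2 ^ 15) (3 ^ 10)) (Nat.lcm (5 ^ 3 * 19 * 31) (7 ^ 2 * 13)) =
    90745943887872000) ▸ h

end CfsgLib.ThRep

namespace CfsgLib.ThCert

/-- The presented Thompson group has at least the order of the Thompson group. -/
theorem thLarge : ThLarge := by
  have := finite_Th
  exact (Nat.le_of_dvd Nat.card_pos CfsgLib.ThRep.dvd_card_range).trans
    (Nat.le_of_dvd Nat.card_pos (Subgroup.card_range_dvd CfsgLib.ThRep.rep))

end CfsgLib.ThCert
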