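import Cfsg.Agent.ThompsonRep.LowerBase
import Cfsg.Agent.ThompsonRep.LowerTwoData

/-!
Relations of the witnesses hold in the representation.
-/

set_option autoImplicit false
set_option maxRecDepth 100000

namespace CfsgLib.ThRep.LowerTwo

/-- Relations. -/
def rels0 : List (List Nat) := [
  [23, 12, 23, 12, 13, 14, 16, 15, 19],
  [24, 23, 24, 11, 17, 20, 21, 23],
  [22, 13, 22, 11, 20, 19, 20],
  [24, 12, 24, 15, 17, 19, 21],
  [24, 22, 24, 11, 17, 20, 21],
  [21, 20, 21, 11, 17, 20],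
  [25, 17, 25, 12, 18, 17],
  [16, 14, 16, 11, 14],
  [19, 12, 19, 11, 12],
  [21, 14, 21, 14, 17],
  [24, 24, 11, 17, 21],
  [13, 11, 13, 11],
  [15, 11, 15, 11],
  [17, 15, 17, 15],
  [18, 16, 18, 16],
  [20, 12, 20, 13],
  [22, 11, 22, 11],
  [23, 22, 23, 22],
  [12, 12],
  [18, 18]]

theorem rels0_ok : checkExt witRows rels0 = true := by decide +kernel

end CfsgLib.ThRep.LowerTwo
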