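import Cfsg.Agent.ThompsonRep.LowerBase
import Cfsg.Agent.ThompsonRep.LowerTwoData

/-!
Relations of the witnesses hold in the representation.
-/

set_option autoImplicit false
set_option maxRecDepth 100000

namespace CfsgLib.ThRep.LowerTwo

/-- Relations. -/
def rels1 : List (List Nat) := [
  [25, 24, 25, 11, 13, 20, 24, 18, 20],
  [25, 16, 25, 13, 23, 13, 23, 15],
  [22, 15, 22, 15, 17, 18, 19],
  [24, 13, 24, 21, 12, 15, 16],
  [25, 14, 25, 12, 14, 17, 18],
  [22, 14, 22, 16, 13, 19],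
  [25, 21, 25, 12, 21, 18],
  [16, 15, 16, 11, 15],
  [19, 13, 19, 11, 13],
  [21, 19, 21, 13, 16],
  [24, 11, 24, 17, 21],
  [14, 11, 14, 11],
  [15, 13, 15, 13],
  [17, 16, 17, 16],
  [19, 11, 19, 11],
  [20, 13, 20, 12],
  [22, 17, 22, 17],
  [25, 25, 18, 12],
  [13, 13],
  [19, 19]]

theorem rels1_ok : checkExt witRows rels1 = true := by decide +kernel

end CfsgLib.ThRep.LowerTwo
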