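import Cfsg.Agent.ThompsonRep.LowerBase
import Cfsg.Agent.ThompsonRep.LowerTwoData

/-!
Relations of the witnesses hold in the representation.
-/

set_option autoImplicit false
set_option maxRecDepth 100000

namespace CfsgLib.ThRep.LowerTwo

/-- Relations. -/
def rels2 : List (List Nat) := [
  [20, 15, 20, 12, 15, 16, 18, 17],
  [23, 19, 23, 12, 20, 16, 15, 20],
  [25, 22, 25, 13, 16, 14, 18, 22],
  [24, 14, 24, 21, 23, 16, 23],
  [25, 20, 25, 12, 20, 18, 17],
  [22, 18, 22, 18, 12, 19],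
  [13, 12, 13, 11, 12],
  [14, 12, 14, 11, 12],
  [17, 12, 17, 11, 12],
  [19, 14, 19, 11, 14],
  [22, 12, 22, 11, 19],
  [24, 17, 24, 11, 21],
  [15, 14, 15, 14],
  [18, 11, 18, 11],
  [19, 15, 19, 15],
  [20, 17, 20, 17],
  [22, 20, 22, 20],
  [25, 12, 25, 12],
  [14, 14],
  [20, 20]]

theorem rels2_ok : checkExt witRows rels2 = true := by decide +kernel

end CfsgLib.ThRep.LowerTwo
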