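import Cfsg.Agent.ThompsonRep.LowerBase
import Cfsg.Agent.ThompsonRep.LowerTwoData

/-!
Relations of the witnesses hold in the representation.
-/

set_option autoImplicit false
set_option maxRecDepth 100000

namespace CfsgLib.ThRep.LowerTwo

/-- Relations. -/
def rels3 : List (List Nat) := [
  [20, 18, 20, 12, 16, 14, 18, 19],
  [23, 21, 23, 11, 17, 20, 21, 22],
  [25, 23, 25, 13, 14, 23, 12, 22],
  [24, 15, 24, 12, 13, 21, 15],
  [20, 16, 20, 13, 14, 19],
  [21, 13, 21, 13, 14, 17],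
  [22, 21, 22, 11, 17, 21],
  [15, 12, 15, 11, 12],
  [17, 13, 17, 11, 13],
  [19, 17, 19, 11, 17],
  [22, 16, 22, 16, 17],
  [24, 21, 24, 11, 17],
  [16, 11, 16, 11],
  [18, 13, 18, 13],
  [19, 16, 19, 16],
  [21, 21, 11, 17],
  [23, 11, 23, 11],
  [25, 18, 25, 18],
  [15, 15],
  [22, 22]]

theorem rels3_ok : checkExt witRows rels3 = true := by decide +kernel

end CfsgLib.ThRep.LowerTwo
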