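import Cfsg.Agent.ThompsonRep.LowerBase
import Cfsg.Agent.ThompsonRep.LowerTwoData

/-!
Relations of the witnesses hold in the representation.
-/

set_option autoImplicit false
set_option maxRecDepth 100000

namespace CfsgLib.ThRep.LowerTwo

/-- Relations. -/
def rels4 : List (List Nat) := [
  [23, 13, 23, 12, 14, 22, 15, 22],
  [24, 16, 24, 11, 12, 21, 16, 18],
  [20, 19, 20, 12, 14, 16, 17],
  [23, 14, 23, 12, 14, 16, 18],
  [24, 19, 24, 15, 17, 21, 18],
  [21, 16, 21, 13, 14, 19],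
  [25, 13, 25, 14, 16, 19],
  [16, 12, 16, 11, 12],
  [18, 12, 18, 11, 12],
  [20, 14, 20, 14, 17],
  [22, 19, 22, 11, 12],
  [25, 11, 25, 12, 18],
  [17, 11, 17, 11],
  [18, 14, 18, 14],
  [19, 18, 19, 18],
  [21, 11, 21, 17],
  [23, 17, 23, 17],
  [25, 19, 25, 19],
  [16, 16],
  [23, 23]]

theorem rels4_ok : checkExt witRows rels4 = true := by decide +kernel

end CfsgLib.ThRep.LowerTwo
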