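import Cfsg.Agent.ThompsonRep.LowerBase
import Cfsg.Agent.ThompsonRep.LowerTwoData

/-!
Relations of the witnesses hold in the representation.
-/

set_option autoImplicit false
set_option maxRecDepth 100000

namespace CfsgLib.ThRep.LowerTwo

/-- Relations. -/
def rels5 : List (List Nat) := [
  [23, 18, 23, 13, 14, 16, 15, 17],
  [24, 18, 24, 12, 15, 21, 14, 16],
  [21, 15, 21, 13, 15, 18, 17],
  [23, 16, 23, 16, 18, 17, 19],
  [24, 20, 24, 11, 17, 21, 22],
  [21, 18, 21, 14, 18, 17],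
  [25, 15, 25, 15, 18, 19],
  [16, 13, 16, 11, 13],
  [18, 17, 18, 11, 17],
  [21, 12, 21, 12, 14],
  [23, 15, 23, 15, 17],
  [12, 11, 12, 11],
  [14, 13, 14, 13],
  [17, 14, 17, 14],
  [18, 15, 18, 15],
  [20, 11, 20, 11],
  [21, 17, 21, 11],
  [23, 20, 23, 20],
  [11, 11],
  [17, 17]]

theorem rels5_ok : checkExt witRows rels5 = true := by decide +kernel

end CfsgLib.ThRep.LowerTwo
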