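import Cfsg.Agent.ThompsonRep.LowerBase
import Cfsg.Agent.ThompsonRep.LowerTwoData

/-!
The witnesses are given by their words.
-/

set_option autoImplicit false
set_option maxRecDepth 100000

namespace CfsgLib.ThRep.LowerTwo

/-- The witnesses with their words. -/
def wit : Witnesses where
  rows := witRows
  defs := witDefs
  len := by decide +kernel
  good := by decide +kernel
  defs_lt := by decide +kernel
  defs_ok := by decide +kernel

end CfsgLib.ThRep.LowerTwo
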