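import Cfsg.Agent.ThompsonRep.LowerPoints
import Cfsg.Agent.ThompsonRep.LowerTwoSetup
import Cfsg.Agent.ThompsonRep.LowerTwoCheck0
import Cfsg.Agent.ThompsonRep.LowerTwoCheck1
import Cfsg.Agent.ThompsonRep.LowerTwoCheck2
import Cfsg.Agent.ThompsonRep.LowerTwoCheck3
import Cfsg.Agent.ThompsonRep.LowerTwoCheck4
import Cfsg.Agent.ThompsonRep.LowerTwoCheck5

/-!
The image of the representation has a subgroup of order at least `2 ^ 15` of two-power order.
-/

set_option autoImplicit false
set_option maxRecDepth 100000

namespace CfsgLib.ThRep.LowerTwo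

open Matrix CfsgLib.LyG2 CfsgLib.CosetEnum

noncomputable section

/-- All relations. -/
def allRels : List (List ℕ) := rels0 ++ rels1 ++ rels2 ++ rels3 ++ rels4 ++ rels5

/-- A relation showing membership of a word in the span of the earlier witnesses. -/
def hasRel (head : List ℕ) (bound : ℕ) : Bool :=
  allRels.any fun r => (r.take head.length == head) &&
    (r.drop head.length).all fun x => Nat.ble 11 x && Nat.blt x bound

theorem rels_found : ∀ i < 15, hasRel [11 + i, 11 + i] (11 + i) = true ∧
    ∀ j < i, hasRel [11 + i, 11 + j, 11 + i] (11 + i) = true := by decide +kernel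

theorem rels_lt : ∀ r ∈ allRels, ∀ x ∈ r, x < 26 := by decide +kernel

theorem wit_len : wit.rows.length = 15 ∧ witRows.length = 15 := by decide +kernel

theorem wit_rows : wit.rows = witRows := rfl

theorem rel_eq_one {r : List ℕ} (hr : r ∈ allRels) : (r.map (extGL wit.defs)).prod = 1 := by
  have hx : ∀ x ∈ r, x < 11 + wit.rows.length := fun x hx => by
    rw [wit_len.1]; exact rels_lt r hr x hx
  simp only [allRels, List.mem_append] at hr
  rcases hr with ((((h | h) | h) | h) | h) | h
  exacts [wit.eq_one rels0_ok hx h, wit.eq_one rels1_ok hx h, wit.eq_one rels2_ok hx h,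
    wit.eq_one rels3_ok hx h, wit.eq_one rels4_ok hx h, wit.eq_one rels5_ok hx h]

attribute [local irreducible] mat genGL rep tab extGL wit allRels

/-- The witnesses as a sequence in the image. -/
def qR (i : ℕ) : rep.range := ⟨extGL wit.defs (11 + i), extGL_mem _ _⟩

theorem span_mem {i : ℕ} {tl : List ℕ} (h : ∀ x ∈ tl, 11 ≤ x ∧ x < 11 + i) :
    ∃ a ∈ prefixSub qR i, (a : GL (Fin 248) (ZMod 3)) = (tl.map (extGL wit.defs)).prod := by
  induction tl with
  | nil => exact ⟨1, Subgroup.one_mem _, rfl⟩
  | cons c tl ih =>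
    obtain ⟨a, ha, e⟩ := ih fun x hx => h x (List.mem_cons_of_mem _ hx)
    obtain ⟨h1, h2⟩ := h c List.mem_cons_self
    refine ⟨qR (c - 11) * a,
      Subgroup.mul_mem _ (Subgroup.subset_closure ⟨c - 11, by omega, rfl⟩) ha, ?_⟩
    rw [Subgroup.coe_mul, e, List.map_cons, List.prod_cons]
    show extGL wit.defs (11 + (c - 11)) * _ = _
    rw [Nat.add_sub_cancel' h1]

theorem mem_of_rel {head : List ℕ} {i : ℕ} (h : hasRel head (11 + i) = true)
    (g : rep.range) (hg : (g : GL (Fin 248) (ZMod 3)) = (head.map (extGL wit.defs)).prod) :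
    g ∈ prefixSub qR i := by
  simp only [hasRel, List.any_eq_true, Bool.and_eq_true, beq_iff_eq, List.all_eq_true,
    Nat.ble_eq, Nat.blt_eq] at h
  obtain ⟨r, hr, htake, htail⟩ := h
  obtain ⟨a, ha, e⟩ := span_mem (i := i) htail
  have hr' : head ++ r.drop head.length = r := by
    nth_rewrite 1 [← htake]
    exact List.take_append_drop _ _
  have hga : (g : GL (Fin 248) (ZMod 3)) * (a : GL (Fin 248) (ZMod 3)) = 1 := by
    rw [hg, e, ← List.prod_append, ← List.map_append, hr']
    exact rel_eq_one hr
  have h1 : g = a⁻¹ := eq_inv_of_mul_eq_one_left (Subtype.ext hga)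
  rw [h1]
  exact Subgroup.inv_mem _ ha

theorem pow_mem {i : ℕ} (hi : i < 15) : qR i ^ 2 ∈ prefixSub qR i :=
  mem_of_rel (rels_found i hi).1 _ (by simp [qR, pow_two])

theorem conj_mem {i j : ℕ} (hi : i < 15) (hj : j < i) :
    qR i * qR j * (qR i)⁻¹ ∈ prefixSub qR i := by
  have h := mem_of_rel ((rels_found i hi).2 j hj) (qR i * qR j * qR i) (by simp [qR, mul_assoc])
  rw [show qR i * qR j * (qR i)⁻¹ = qR i * qR j * qR i * (qR i ^ 2)⁻¹ by rw [pow_two]; group]
  exact Subgroup.mul_mem _ h (Subgroup.inv_mem _ (pow_mem hi))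

/-- The action on row vectors. -/
def act (v : Fin 248 → ZMod 3) (g : rep.range) : Fin 248 → ZMod 3 :=
  Matrix.vecMul v (g : GL (Fin 248) (ZMod 3)).val

theorem act_one (v : Fin 248 → ZMod 3) : act v 1 = v := by
  rw [act, Subgroup.coe_one, Units.val_one, Matrix.vecMul_one]

theorem act_mul (v : Fin 248 → ZMod 3) (a b : rep.range) : act v (a * b) = act (act v a) b := by
  rw [act, act, act, Subgroup.coe_mul, Units.val_mul, Matrix.vecMul_vecMul]

theorem imgs_ok : (withTab witRows [] fun T =>
    (List.range 15).all fun j => imgsOK (imgs.getD j []) (T.getD j 0)) = true := by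
  decide +kernel

theorem imgs_len : ∀ j < 15, (imgs.getD j []).length = if j = 0 then 121 else 120 := by
  decide +kernel

theorem act_q {j p : ℕ} (hj : j < 15) (hp : p < 2 * (imgs.getD j []).length) :
    act (sgnVec p) (qR j) = sgnVec (imgOf (imgs.getD j []) p) := by
  have h := imgs_ok
  rw [withTab_eq, List.all_eq_true] at h
  have hT : extTab wit.rows (11 + j) = (witRows.map (expand 248)).getD j 0 := by
    rw [extTab, List.map_append, List.getD_append_right _ _ _ _
      (by simp [Witnesses.allRows_length]), wit_rows]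
    simp [Witnesses.allRows_length]
  show Matrix.vecMul (sgnVec p) (extGL wit.defs (11 + j)).val = _
  rw [wit.val (by rw [wit_len.1]; omega), hT]
  refine vecMul_sgnVec ?_ hp (by rw [imgs_len j hj]; split_ifs <;> norm_num)
  simpa using h j (List.mem_range.2 hj)

/-- The image of a signed line under a word in the witnesses, with a check of the range. -/
def walk : List ℕ → ℕ → Option ℕ
  | [], p => some p
  | c :: w, p => bif Nat.blt p (Nat.mul 2 (imgs.getD c []).length) then
      walk w (imgOf (imgs.getD c []) p) else none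

/-- A word as an element. -/
def word (w : List ℕ) : rep.range := (w.map qR).prod

theorem act_word : ∀ (w : List ℕ) (p r : ℕ), (∀ c ∈ w, c < 15) → walk w p = some r →
    act (sgnVec p) (word w) = sgnVec r
  | [], p, r, _, h => by
    rw [walk, Option.some.injEq] at h
    rw [word, List.map_nil, List.prod_nil, act_one, h]
  | c :: w, p, r, hw, h => by
    rw [walk] at h
    cases hb : Nat.blt p (Nat.mul 2 (imgs.getD c []).length)
    · rw [hb, cond_false] at h; cases h
    · rw [hb, cond_true] at h
      rw [word, List.map_cons, List.prod_cons, act_mul,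
        act_q (hw c List.mem_cons_self) (Nat.blt_eq ▸ hb), ← word]
      exact act_word w _ r (fun x hx => hw x (List.mem_cons_of_mem _ hx)) h

/-- The points moved to by a level. -/
def levelImgs (e : ℕ × List (List ℕ)) : List ℕ := e.2.map fun w => (walk w e.1).getD 496

theorem levels_ok : (∀ e ∈ levels, e.1 < 496 ∧ (∀ w ∈ e.2, ∀ c ∈ w, c < 15) ∧
      (∀ x ∈ levelImgs e, x < 496) ∧ (levelImgs e).Nodup) ∧
    (levels.tails.all fun L => match L with
      | [] => true
      | e :: L' => L'.all fun e' => e'.2.all fun w => walk w e.1 == some e.1) = true ∧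
    (levels.map fun e => e.2.length).prod = 2 ^ 15 := by
  decide +kernel

theorem sgnVec_injective {p r : ℕ} (hp : p < 496) (hr : r < 496) (h : sgnVec p = sgnVec r) :
    p = r := by
  have h1 := congrFun h ⟨p / 2, by omega⟩
  simp only [sgnVec] at h1
  rw [if_pos (show p / 2 = Nat.div p 2 from rfl)] at h1
  have hp2 : Nat.mod p 2 = p % 2 := rfl
  have hr2 : Nat.mod r 2 = r % 2 := rfl
  have hd : Nat.div r 2 = r / 2 := rfl
  rw [hp2, hr2, hd] at h1
  by_cases e : p / 2 = r / 2
  · rw [if_pos e] at h1
    rcases Nat.mod_two_eq_zero_or_one p with a | a <;>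
      rcases Nat.mod_two_eq_zero_or_one r with b | b <;> rw [a, b] at h1
    exacts [by omega, absurd h1 (by decide), absurd h1 (by decide), by omega]
  · rw [if_neg e] at h1
    rcases Nat.mod_two_eq_zero_or_one p with a | a <;> rw [a] at h1 <;>
      exact absurd h1 (by decide)

theorem word_mem {w : List ℕ} (hw : ∀ c ∈ w, c < 15) : word w ∈ prefixSub qR 15 :=
  Subgroup.list_prod_mem _ fun a ha => by
    obtain ⟨c, hc, rfl⟩ := List.mem_map.1 ha
    exact Subgroup.subset_closure ⟨c, hw c hc, rfl⟩

/-- The levels as vectors and elements. -/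
def levelsV : List ((Fin 248 → ZMod 3) × List rep.range) :=
  levels.map fun e => (sgnVec e.1, e.2.map word)

theorem levelsV_ok : LevelsOK act act_one act_mul (prefixSub qR 15) levelsV := by
  have key : ∀ (L : List (ℕ × List (List ℕ))) (K : Subgroup rep.range),
      L <:+ levels → (∀ e ∈ L, ∀ w ∈ e.2, word w ∈ K) →
      LevelsOK act act_one act_mul K (L.map fun e => (sgnVec e.1, e.2.map word)) := by
    intro L
    induction L with
    | nil => intro _ _ _; trivial
    | cons e L ih =>
      intro K hsuf hK
      obtain ⟨he1, hw, hlt, hnd⟩ := levels_ok.1 e (hsuf.subset List.mem_cons_self)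
      refine ⟨fun g hg => ?_, ?_, ih _ ((List.suffix_cons e L).trans hsuf) fun e' he' w hwm =>
        ⟨hK e' (List.mem_cons_of_mem _ he') w hwm, ?_⟩⟩
      · obtain ⟨w, hwm, rfl⟩ := List.mem_map.1 hg
        exact hK e List.mem_cons_self w hwm
      · have himg : (e.2.map word).map (act (sgnVec e.1)) = (levelImgs e).map sgnVec := by
          rw [levelImgs, List.map_map, List.map_map]
          refine List.map_congr_left fun w hwm => ?_
          have := hlt _ (List.mem_map.2 ⟨w, hwm, rfl⟩)
          cases hr : walk w e.1 with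
          | none => rw [hr] at this; simp at this
          | some r => simpa [hr] using act_word w e.1 r (hw w hwm) hr
        rw [himg]
        exact (List.nodup_map_iff_inj_on hnd).2 fun a ha b hb h =>
          sgnVec_injective (hlt a ha) (hlt b hb) h
      · have h := levels_ok.2.1
        rw [List.all_eq_true] at h
        have h' := h (e :: L) ((List.mem_tails _ _).2 hsuf)
        simp only [List.all_eq_true] at h'
        exact act_word w e.1 e.1
          ((levels_ok.1 e' (hsuf.subset (List.mem_cons_of_mem _ he'))).2.1 w hwm)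
          (beq_iff_eq.1 (h' e' he' w hwm))
  exact key levels _ (List.suffix_refl _) fun e he w hw => word_mem ((levels_ok.1 e he).2.1 w hw)

/-- `2 ^ 15` divides the order of the image. -/
theorem dvd_two : 2 ^ 15 ∣ Nat.card rep.range := by
  have : Fact (Nat.Prime 2) := ⟨Nat.prime_two⟩
  refine dvd_of_chain qR 15 14 (fun i hi => pow_mem hi) (fun i hi j hj => conj_mem hi hj) ?_
  have h := le_card_of_levels act act_one act_mul levelsV _ levelsV_ok
  rw [levelsV, List.map_map] at h
  simp only [Function.comp_def, List.length_map] at h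
  rw [levels_ok.2.2] at h
  exact lt_of_lt_of_le (Nat.pow_lt_pow_right (by norm_num) (by norm_num)) h

end

end CfsgLib.ThRep.LowerTwo
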