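import Cfsg.Agent.ThompsonRep.Table

/-!
Inverses of the generators.
-/

set_option autoImplicit false
set_option maxRecDepth 100000

namespace CfsgLib.ThRep

/-- Inverse pairs. -/
def batchInv : List (List ℕ) :=
  [[0, 0], [1, 1], [2, 2], [3, 3], [4, 4], [5, 6], [6, 5], [7, 8], [8, 7], [9, 10], [10, 9]]

theorem batchInv_ok : checkBatch batchInv = true := by decide +kernel

theorem good_ok : checkGood = true := by decide +kernel

end CfsgLib.ThRep
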