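import Cfsg.Agent.ThompsonRep.Rep
import Mathlib.GroupTheory.PGroup

/-!
Tools for a lower bound on the order of the representation of degree 248: extended tables of witnesses,
trivial words, and a chain criterion for a subgroup of prime power order.
-/

set_option autoImplicit false
set_option maxRecDepth 100000

namespace CfsgLib.ThRep

open Matrix Cfsg.Spor CfsgLib.LyG2 CfsgLib.CosetEnum

attribute [local irreducible] mat genGL rep tab

/-- The image of a letter. -/
def letGL (x : ℕ) : GL (Fin 248) (ZMod 3) :=
  [genGL .a, genGL .b, genGL .c, genGL .d, genGL .e, genGL .s, (genGL .s)⁻¹, genGL .t, (genGL .t)⁻¹,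
    genGL .u].getD x (genGL .u)⁻¹

/-- The inverse letter. -/
def invLet (x : ℕ) : ℕ := [0, 1, 2, 3, 4, 6, 5, 8, 7, 10, 9].getD x x

/-- The inverse word. -/
def invWord (w : List ℕ) : List ℕ := (w.map invLet).reverse

theorem letGL_val {x : ℕ} (hx : x < 11) : (letGL x).val = mat x := by
  interval_cases x <;>
    simp only [letGL, List.getD_cons_succ, List.getD_cons_zero, List.getD_nil, genGL_val,
      genGL_inv_val, code]

theorem genGL_mem (g : Th.Gen) : genGL g ∈ rep.range := MonoidHom.mem_range.2 ⟨_, rep_of g⟩

theorem letGL_mem (x : ℕ) : letGL x ∈ rep.range := by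
  rcases x with _ | _ | _ | _ | _ | _ | _ | _ | _ | _ | x <;>
    simp only [letGL, List.getD_cons_succ, List.getD_cons_zero, List.getD_nil, inv_mem_iff] <;>
    exact genGL_mem _

/-- A word as an element of the image. -/
def elGL (w : List ℕ) : GL (Fin 248) (ZMod 3) := (w.map letGL).prod

theorem elGL_mem (w : List ℕ) : elGL w ∈ rep.range := by
  induction w with
  | nil =>
    rw [elGL, List.map_nil, List.prod_nil]
    exact Subgroup.one_mem _
  | cons c w ih =>
    rw [elGL, List.map_cons, List.prod_cons]
    exact Subgroup.mul_mem _ (letGL_mem c) ih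

/-- The table of the letters followed by witnesses. -/
def extTab (Ls : List (List ℕ)) (x : ℕ) : ℕ := ((allRows ++ Ls).map (expand 248)).getD x 0

/-- A batch of words in the letters and the witnesses. -/
def checkExt (Ls : List (List ℕ)) (ws : List (List ℕ)) : Bool :=
  withTab (allRows ++ Ls) [] fun T => chkWords3 248 (fun x => T.getD x 0) ws

/-- Every witness is reduced. -/
def goodExt (Ls : List (List ℕ)) : Bool :=
  withTab Ls [] fun T => (List.range Ls.length).all fun j => goodX 248 (T.getD j 0)

/-- A letter or a witness as an element. -/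
def extGL (defs : List (List ℕ)) (x : ℕ) : GL (Fin 248) (ZMod 3) :=
  if x < 11 then letGL x else elGL (defs.getD (x - 11) [])

theorem extGL_mem (defs : List (List ℕ)) (x : ℕ) : extGL defs x ∈ rep.range := by
  rw [extGL]
  split_ifs
  exacts [letGL_mem x, elGL_mem _]

/-- Witnesses with their defining words. -/
structure Witnesses where
  /-- the matrices -/
  rows : List (List ℕ)
  /-- the words -/
  defs : List (List ℕ)
  len : defs.length = rows.length
  good : goodExt rows = true
  defs_lt : ∀ d ∈ defs, ∀ x ∈ d, x < 11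
  defs_ok : checkExt rows
    ((List.range rows.length).map fun j => (11 + j) :: invWord (defs.getD j [])) = true

namespace Witnesses

variable (W : Witnesses)

theorem allRows_length : allRows.length = 11 := by decide +kernel

theorem tab_eq {x : ℕ} (hx : x < 11) : extTab W.rows x = tab x := by
  rw [extTab, tab, List.map_append, List.getD_append _ _ _ _ (by simp [allRows_length, hx])]

theorem goodX_ext {x : ℕ} (hx : x < 11 + W.rows.length) : goodX 248 (extTab W.rows x) = true := by
  by_cases h : x < 11
  · rw [W.tab_eq h]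
    exact goodX_tab x h
  · have hg := W.good
    rw [goodExt, withTab_eq, List.all_eq_true] at hg
    have := hg (x - 11) (List.mem_range.2 (by omega))
    rw [extTab, List.map_append,
      List.getD_append_right _ _ _ _ (by simp [allRows_length]; omega)]
    simpa [allRows_length] using this

theorem chk_ext {ws : List (List ℕ)} (h : checkExt W.rows ws = true) :
    chkWords3 248 (extTab W.rows) ws = true := by
  rwa [checkExt, withTab_eq] at h

theorem prod_eq_one {ws : List (List ℕ)} (h : checkExt W.rows ws = true) {w : List ℕ}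
    (hw : ∀ x ∈ w, x < 11 + W.rows.length) (hm : w ∈ ws) :
    (w.map fun x => toT 248 (extTab W.rows x)).prod = 1 :=
  chk3_word (by norm_num) _ oneOk_ok (fun x hx => W.goodX_ext (hw x hx)) (W.chk_ext h) hm

theorem invLet_lt {x : ℕ} (hx : x < 11) : invLet x < 11 ∧ letGL (invLet x) = (letGL x)⁻¹ := by
  have h2 : ∀ g : Th.Gen, code (g, true) = code (g, false) → (genGL g)⁻¹ = genGL g := fun g e =>
    Units.ext (by rw [genGL_inv_val, genGL_val, e])
  interval_cases x <;>
    simp only [invLet, letGL, List.getD_cons_succ, List.getD_cons_zero, List.getD_nil, inv_inv] <;>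
    refine ⟨by norm_num, ?_⟩ <;> first | trivial | exact (h2 _ rfl).symm

theorem elGL_val {w : List ℕ} (hw : ∀ x ∈ w, x < 11) :
    (elGL w).val = (w.map fun x => toT 248 (extTab W.rows x)).prod := by
  rw [elGL, ← Units.coeHom_apply, map_list_prod, List.map_map]
  refine congrArg List.prod (List.map_congr_left fun x hx => ?_)
  show (letGL x).val = _
  rw [letGL_val (hw x hx), mat_eq, W.tab_eq (hw x hx)]

theorem elGL_invWord {w : List ℕ} (hw : ∀ x ∈ w, x < 11) : elGL (invWord w) = (elGL w)⁻¹ := by
  induction w with
  | nil => simp [elGL, invWord]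
  | cons c w ih =>
    have e : invWord (c :: w) = invWord w ++ [invLet c] := by simp [invWord]
    have h2 : elGL (c :: w) = letGL c * elGL w := by simp [elGL]
    rw [e, elGL, List.map_append, List.prod_append, ← elGL,
      ih (fun x hx => hw x (List.mem_cons_of_mem _ hx)), h2, _root_.mul_inv_rev]
    simp [(invLet_lt (hw c List.mem_cons_self)).2]

/-- The value of a letter or witness. -/
theorem val {x : ℕ} (hx : x < 11 + W.rows.length) :
    (extGL W.defs x).val = toT 248 (extTab W.rows x) := by
  rw [extGL]
  split_ifs with h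
  · rw [letGL_val h, mat_eq, W.tab_eq h]
  · set d := W.defs.getD (x - 11) [] with hd
    have hdm : d ∈ W.defs := by
      rw [hd, List.getD_eq_getElem _ _ (by rw [W.len]; omega)]
      exact List.getElem_mem _
    have hdl := W.defs_lt d hdm
    have hil : ∀ y ∈ invWord d, y < 11 := by
      intro y hy
      simp only [invWord, List.mem_reverse, List.mem_map] at hy
      obtain ⟨z, hz, rfl⟩ := hy
      exact (invLet_lt (hdl z hz)).1
    have h1 := W.prod_eq_one W.defs_ok (w := x :: invWord d) (by
        intro y hy
        rcases List.mem_cons.1 hy with rfl | hy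
        · exact hx
        · have := hil y hy; omega)
      (List.mem_map.2 ⟨x - 11, List.mem_range.2 (by omega), by rw [Nat.add_sub_cancel' (by omega)]⟩)
    rw [List.map_cons, List.prod_cons, ← W.elGL_val hil, elGL_invWord hdl] at h1
    calc (elGL d).val = 1 * (elGL d).val := (one_mul _).symm
      _ = toT 248 (extTab W.rows x) := by
        rw [← h1, mul_assoc, ← Units.val_mul, inv_mul_cancel, Units.val_one, mul_one]

/-- A checked word is trivial. -/
theorem eq_one {ws : List (List ℕ)} (h : checkExt W.rows ws = true) {w : List ℕ}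
    (hw : ∀ x ∈ w, x < 11 + W.rows.length) (hm : w ∈ ws) : (w.map (extGL W.defs)).prod = 1 := by
  refine Units.ext ?_
  rw [← Units.coeHom_apply, map_list_prod, List.map_map, Units.val_one, ← W.prod_eq_one h hw hm]
  exact congrArg List.prod (List.map_congr_left fun x hx => W.val (hw x hx))

end Witnesses

section Chain

variable {G : Type*} [Group G] [Finite G]

/-- The subgroup generated by the first members of a sequence. -/
def prefixSub (q : ℕ → G) (i : ℕ) : Subgroup G := Subgroup.closure {a | ∃ j < i, a = q j}

omit [Finite G] in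
theorem prefixSub_succ (q : ℕ → G) (i : ℕ) :
    prefixSub q (i + 1) = prefixSub q i ⊔ Subgroup.zpowers (q i) := by
  refine le_antisymm ?_ (sup_le (Subgroup.closure_mono ?_) ?_)
  · rw [prefixSub, Subgroup.closure_le]
    rintro a ⟨j, hj, rfl⟩
    rcases Nat.lt_succ_iff_lt_or_eq.1 hj with hj | rfl
    · exact Subgroup.mem_sup_left (Subgroup.subset_closure ⟨j, hj, rfl⟩)
    · exact Subgroup.mem_sup_right (Subgroup.mem_zpowers _)
  · exact fun a ⟨j, hj, e⟩ => ⟨j, hj.trans i.lt_succ_self, e⟩
  · exact (Subgroup.zpowers_le).2 (Subgroup.subset_closure ⟨i, i.lt_succ_self, rfl⟩)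

/-- A sequence each member of which normalises the earlier ones and has its `p`-th power among them
generates a `p`-group. -/
theorem isPGroup_prefix {p : ℕ} [Fact p.Prime] (q : ℕ → G) (n : ℕ)
    (hpow : ∀ i < n, q i ^ p ∈ prefixSub q i)
    (hconj : ∀ i < n, ∀ j < i, q i * q j * (q i)⁻¹ ∈ prefixSub q i) :
    ∀ i ≤ n, IsPGroup p (prefixSub q i) := by
  intro i
  induction i with
  | zero =>
    intro _
    rw [show prefixSub q 0 = ⊥ by simp [prefixSub]]
    exact IsPGroup.of_bot
  | succ i ih =>
    intro hi
    set H := prefixSub q i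
    have hn : q i ∈ Subgroup.normalizer (H : Set G) := by
      have := Fintype.ofFinite G
      refine Subgroup.mem_normalizer_fintype fun a ha => ?_
      induction ha using Subgroup.closure_induction with
      | mem b hb =>
        obtain ⟨j, hj, rfl⟩ := hb
        exact hconj i (by omega) j hj
      | one => simp [one_mem]
      | mul b c _ _ hb hc =>
        rw [show q i * (b * c) * (q i)⁻¹ = (q i * b * (q i)⁻¹) * (q i * c * (q i)⁻¹) by group]
        exact mul_mem hb hc
      | inv b _ hb =>
        rw [show q i * b⁻¹ * (q i)⁻¹ = (q i * b * (q i)⁻¹)⁻¹ by group]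
        exact Subgroup.inv_mem _ hb
    intro x
    obtain ⟨x, hx⟩ := x
    have hle : Subgroup.zpowers (q i) ≤ Subgroup.normalizer (H : Set G) := (Subgroup.zpowers_le).2 hn
    have hx' := hx
    rw [prefixSub_succ, ← SetLike.mem_coe, Subgroup.coe_mul_of_right_le_normalizer_left _ _ hle] at hx'
    obtain ⟨h, hh, c, hc, rfl⟩ := Set.mem_mul.1 hx'
    obtain ⟨m, rfl⟩ := Subgroup.mem_zpowers_iff.1 hc
    have key : ∀ k : ℕ, (h * q i ^ m) ^ k * (q i ^ (m * k))⁻¹ ∈ H := by
      intro k
      induction k with
      | zero => simp [H.one_mem]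
      | succ k ihk =>
        have e : (h * q i ^ m) ^ (k + 1) * (q i ^ (m * ((k + 1 : ℕ) : ℤ)))⁻¹ =
            h * (q i ^ m * ((h * q i ^ m) ^ k * (q i ^ (m * k))⁻¹) * (q i ^ m)⁻¹) := by
          rw [pow_succ', show m * ((k + 1 : ℕ) : ℤ) = m * (k : ℤ) + m by push_cast; ring, _root_.zpow_add]
          group
        rw [e]
        exact mul_mem hh ((Subgroup.mem_normalizer_iff.1
          (zpow_mem hn m) _).1 ihk)
    have hp : (h * q i ^ m) ^ p ∈ H := by
      have := mul_mem (key p) (show q i ^ (m * (p : ℤ)) ∈ H by
        rw [mul_comm, _root_.zpow_mul, zpow_natCast]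
        exact zpow_mem (hpow i (by omega)) m)
      rwa [inv_mul_cancel_right] at this
    obtain ⟨e, he⟩ := ih (by omega) ⟨_, hp⟩
    refine ⟨e + 1, Subtype.ext ?_⟩
    have he' := congrArg Subtype.val he
    simp only [SubmonoidClass.coe_pow, OneMemClass.coe_one] at he' ⊢
    rw [pow_succ', pow_mul]
    exact he'

/-- Such a sequence with more than `p ^ n` elements in its span gives divisibility by `p ^ (n + 1)`. -/
theorem dvd_of_chain {p : ℕ} [hp : Fact p.Prime] (q : ℕ → G) (m n : ℕ)
    (hpow : ∀ i < m, q i ^ p ∈ prefixSub q i)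
    (hconj : ∀ i < m, ∀ j < i, q i * q j * (q i)⁻¹ ∈ prefixSub q i)
    (hbig : p ^ n < Nat.card (prefixSub q m)) : p ^ (n + 1) ∣ Nat.card G := by
  obtain ⟨k, hk⟩ := IsPGroup.iff_card.1 (isPGroup_prefix q m hpow hconj m le_rfl)
  have : n + 1 ≤ k := by
    by_contra hlt
    exact absurd hbig (by rw [hk, not_lt]; exact Nat.pow_le_pow_right hp.out.pos (by omega))
  exact (pow_dvd_pow p this).trans (hk ▸ Subgroup.card_subgroup_dvd_card _)

end Chain

end CfsgLib.ThRep
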