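import Cfsg.Agent.ThompsonRep.LowerBase
import Cfsg.Agent.ThompsonRep.LowerFiveData

/-!
The witnesses are the values of their words, one check per witness.
-/

set_option autoImplicit false
set_option Elab.async false
set_option maxRecDepth 100000

namespace CfsgLib.ThRep

/-- The defining word check of a witness. -/
def fiveDef (j : ℕ) : List ℕ := (11 + j) :: invWord (fiveDefs.getD j [])

theorem fiveDef0_ok : checkExt fiveRows [fiveDef 0] = true := by decide +kernel

theorem fiveDef1_ok : checkExt fiveRows [fiveDef 1] = true := by decide +kernel

theorem fiveDef2_ok : checkExt fiveRows [fiveDef 2] = true := by decide +kernel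

theorem fiveDef3_ok : checkExt fiveRows [fiveDef 3] = true := by decide +kernel

theorem fiveDef4_ok : checkExt fiveRows [fiveDef 4] = true := by decide +kernel

theorem fiveDef5_ok : checkExt fiveRows [fiveDef 5] = true := by decide +kernel

theorem fiveDef6_ok : checkExt fiveRows [fiveDef 6] = true := by decide +kernel

/-- Batches of one word each make a batch. -/
theorem checkExt_all {Ls : List (List ℕ)} {ws : List (List ℕ)}
    (h : ∀ w ∈ ws, checkExt Ls [w] = true) : checkExt Ls ws = true := by
  simp only [checkExt, withTab_eq, chkWords3, CosetEnum.force_eq, List.all_eq_true,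
    List.all_cons, List.all_nil, Bool.and_true] at h ⊢
  exact h

theorem fiveDefs_ok : checkExt fiveRows
    ((List.range fiveRows.length).map fun j => (11 + j) :: invWord (fiveDefs.getD j [])) = true := by
  refine checkExt_all fun w hw => ?_
  obtain ⟨j, hj, rfl⟩ := List.mem_map.mp hw
  have hl : fiveRows.length = 7 := by decide +kernel
  rw [List.mem_range, hl] at hj
  interval_cases j
  exacts [fiveDef0_ok, fiveDef1_ok, fiveDef2_ok, fiveDef3_ok, fiveDef4_ok, fiveDef5_ok, fiveDef6_ok]

end CfsgLib.ThRep
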