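import Cfsg.Agent.ThompsonRep.LowerBase
import Cfsg.Agent.ThompsonRep.LowerTwoData

/-!
A lower bound on the order of a group from base points with elements moving them, and the signed
coordinate lines permuted by the witnesses.
-/

set_option autoImplicit false
set_option maxRecDepth 100000

namespace CfsgLib.ThRep

open Matrix CfsgLib.LyG2 CfsgLib.CosetEnum

section Levels

variable {G V : Type*} [Group G] (act : V → G → V) (h1 : ∀ v, act v 1 = v)
  (hmul : ∀ v a b, act v (a * b) = act (act v a) b)

/-- The elements fixing a point. -/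
def fixAt (v : V) : Subgroup G where
  carrier := {g | act v g = v}
  one_mem' := h1 v
  mul_mem' := fun {a b} (ha : act v a = v) (hb : act v b = v) =>
    show act v (a * b) = v by rw [hmul, ha, hb]
  inv_mem' := fun {a} (ha : act v a = v) => show act v a⁻¹ = v by
    conv_lhs => rw [← ha]
    rw [← hmul, mul_inv_cancel, h1]

/-- Each base point is moved to different points by the listed elements fixing the earlier ones. -/
def LevelsOK : Subgroup G → List (V × List G) → Prop
  | _, [] => True
  | K, (v, es) :: L =>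
    (∀ e ∈ es, e ∈ K) ∧ (es.map (act v)).Nodup ∧ LevelsOK (K ⊓ fixAt act h1 hmul v) L

theorem le_card_of_levels [Finite G] : ∀ (L : List (V × List G)) (K : Subgroup G),
    LevelsOK act h1 hmul K L → (L.map fun e => e.2.length).prod ≤ Nat.card K
  | [], _, _ => Nat.card_pos
  | (v, es) :: L, K, ⟨hes, hnd, hrest⟩ => by
    rw [List.map_cons, List.prod_cons]
    refine (Nat.mul_le_mul_left _ (le_card_of_levels L _ hrest)).trans ?_
    rw [← Nat.card_fin es.length, ← Nat.card_prod]
    refine Nat.card_le_card_of_injective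
      (fun x : Fin es.length × ↥(K ⊓ fixAt act h1 hmul v) =>
        (⟨x.2.1 * es[x.1.1], K.mul_mem x.2.2.1 (hes _ (List.getElem_mem _))⟩ : K)) ?_
    rintro ⟨i, a⟩ ⟨j, b⟩ e
    have e' : a.1 * es[i.1] = b.1 * es[j.1] := congrArg Subtype.val e
    have hi : act v es[i.1] = act v es[j.1] := by
      have := congrArg (act v) e'
      rwa [hmul, hmul, show act v a.1 = v from a.2.2, show act v b.1 = v from b.2.2] at this
    have hij : i = j := Fin.ext (by
      refine (hnd.getElem_inj_iff (hi := by simp) (hj := by simp)).1 ?_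
      simpa using hi)
    subst hij
    exact Prod.ext rfl (Subtype.ext (mul_right_cancel e'))

end Levels

/-- A signed coordinate line: twice the coordinate, plus one for the minus sign. -/
def sgnVec (p : ℕ) : Fin 248 → ZMod 3 :=
  fun j => if j.val = Nat.div p 2 then ((Nat.mod p 2 + 1 : ℕ) : ZMod 3) else 0

/-- The image of a signed line under a list of images. -/
def imgOf (L : List ℕ) (p : ℕ) : ℕ :=
  Nat.add (Nat.mul 2 (Nat.div (L.getD (Nat.div p 2) 0) 2))
    (Nat.mod (Nat.add (Nat.mod (L.getD (Nat.div p 2) 0) 2) (Nat.mod p 2)) 2)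

/-- The first rows of a packed matrix are the listed signed lines. -/
def imgsOK (L : List ℕ) (X : ℕ) : Bool :=
  (List.range L.length).all fun k => force (L.getD k 0) fun e =>
    Nat.blt e 496 && Nat.beq (slice 248 X k)
      (Nat.shiftLeft (Nat.add (Nat.mod e 2) 1) (Nat.mul 24 (Nat.div e 2)))

theorem row_of_slice {X k e : ℕ} (he : e < 496)
    (h : slice 248 X k = Nat.shiftLeft (Nat.add (Nat.mod e 2) 1) (Nat.mul 24 (Nat.div e 2)))
    (i : Fin 248) (hi : i.val = k) : toT 248 X i = sgnVec e := by
  funext j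
  show ((dig X (i.val * 248 + j.val) : ℕ) : ZMod 3) = _
  rw [hi, ← dig_slice 248 X k j.val j.isLt, h]
  have hs : Nat.shiftLeft (Nat.add (Nat.mod e 2) 1) (Nat.mul 24 (Nat.div e 2)) =
      pack (fun s => if s = e / 2 then e % 2 + 1 else 0) 248 := by
    rw [pack, Finset.sum_eq_single (e / 2)]
    · rw [if_pos rfl]
      show (e % 2 + 1) <<< (24 * (e / 2)) = _
      rw [Nat.shiftLeft_eq, show base = 2 ^ 24 from rfl, pow_mul]
    · intro b _ hb
      rw [if_neg hb, zero_mul]
    · intro hb
      exact absurd (Finset.mem_range.2 (by omega)) hb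
  rw [hs, dig_pack _ _ (fun s _ => by split <;> simp only [base] <;> omega) _ j.isLt, sgnVec]
  show ((if j.val = e / 2 then e % 2 + 1 else 0 : ℕ) : ZMod 3) =
    if j.val = e / 2 then ((e % 2 + 1 : ℕ) : ZMod 3) else 0
  split_ifs <;> simp

theorem vecMul_sgnVec {X : ℕ} {L : List ℕ} (h : imgsOK L X = true) {p : ℕ} (hp : p < 2 * L.length)
    (hL : L.length ≤ 248) : Matrix.vecMul (sgnVec p) (toT 248 X) = sgnVec (imgOf L p) := by
  have hk : p / 2 < L.length := by omega
  simp only [imgsOK, List.all_eq_true, List.mem_range, force_eq, Bool.and_eq_true, Nat.blt_eq] at h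
  obtain ⟨he, hs⟩ := h (p / 2) hk
  set e := L.getD (p / 2) 0 with hedef
  have hr := row_of_slice he (Nat.eq_of_beq_eq_true hs) ⟨p / 2, by omega⟩ rfl
  have hv : sgnVec p = Pi.single (⟨p / 2, by omega⟩ : Fin 248) ((p % 2 + 1 : ℕ) : ZMod 3) := by
    funext j
    rw [Pi.single_apply, sgnVec]
    exact if_congr (by rw [Fin.ext_iff]; rfl) rfl rfl
  rw [hv, Matrix.single_vecMul]
  funext j
  rw [Pi.smul_apply, smul_eq_mul, Matrix.row_apply, hr, sgnVec, sgnVec]
  have e1 : Nat.div (imgOf L p) 2 = e / 2 := by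
    show (2 * (e / 2) + (e % 2 + p % 2) % 2) / 2 = e / 2
    omega
  have e2 : Nat.mod (imgOf L p) 2 = (e % 2 + p % 2) % 2 := by
    show (2 * (e / 2) + (e % 2 + p % 2) % 2) % 2 = _
    omega
  rw [e1, e2]
  show _ * (if j.val = e / 2 then ((e % 2 + 1 : ℕ) : ZMod 3) else 0) = _
  split_ifs
  · rcases Nat.mod_two_eq_zero_or_one e with h1 | h1 <;>
      rcases Nat.mod_two_eq_zero_or_one p with h2 | h2 <;> rw [h1, h2] <;> rfl
  · rw [mul_zero]

end CfsgLib.ThRep
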