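import Cfsg.Agent.ThompsonRep.Data

/-!
The table of expanded generators, evaluated once per check.
-/

set_option autoImplicit false
set_option maxRecDepth 100000

namespace CfsgLib.ThRep

open CfsgLib.LyG2 CfsgLib.CosetEnum

/-- Expand every matrix and hand the table on. -/
def withTab : List (List ℕ) → List ℕ → (List ℕ → Bool) → Bool
  | [], T, k => k T
  | L :: Ls, T, k => force (expand 248 L) fun X => withTab Ls (T ++ [X]) k

theorem withTab_eq : ∀ (Ls : List (List ℕ)) (T : List ℕ) (k : List ℕ → Bool),
    withTab Ls T k = k (T ++ Ls.map (expand 248))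
  | [], T, k => by simp [withTab]
  | L :: Ls, T, k => by simp [withTab, force_eq, withTab_eq Ls]

/-- The packed generator of a letter. -/
def tab (x : ℕ) : ℕ := (allRows.map (expand 248)).getD x 0

/-- A batch of words. -/
def checkBatch (ws : List (List ℕ)) : Bool :=
  withTab allRows [] fun T => chkWords3 248 (fun x => T.getD x 0) ws

/-- Every generator is reduced. -/
def checkGood : Bool :=
  withTab allRows [] fun T => oneRowsOk 248 && (List.range 11).all fun x => goodX 248 (T.getD x 0)

theorem chk_of_batch {ws : List (List ℕ)} (h : checkBatch ws = true) : chkWords3 248 tab ws = true := by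
  rwa [checkBatch, withTab_eq] at h

theorem good_of_check (h : checkGood = true) : oneOk 248 = true ∧ ∀ x < 11, goodX 248 (tab x) = true := by
  rw [checkGood, withTab_eq] at h
  simp only [Bool.and_eq_true, List.all_eq_true, List.mem_range] at h
  exact ⟨oneOk_of_rows h.1, h.2⟩

end CfsgLib.ThRep
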